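import Cfsg.Agent.H963.QA.Trace

/-!
# Sums of multiplicities of weights of abelian subgroups; the Frobenius bound
-/

set_option autoImplicit false
set_option linter.unusedSectionVars false

namespace Cfsg.Agent.H963.QA

open Module Subgroup

section dual

variable {E : Type*} [CommGroup E] [Finite E]

theorem finite_dual : Finite (E →* ℂˣ) := by
  classical
  have := Fintype.ofFinite E
  exact Finite.of_equiv _ (dualEquiv (E := E))

theorem sum_dual [Fintype E] [Fintype (E →* ℂˣ)] [DecidableEq E] (e : E) :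
    ∑ lam : E →* ℂˣ, (((lam e)⁻¹ : ℂˣ) : ℂ) = if e = 1 then (Fintype.card E : ℂ) else 0 := by
  classical
  have h1 := AddChar.sum_apply_eq_ite (α := Additive E) (Additive.ofMul e⁻¹)
  have h2 : ∑ lam : E →* ℂˣ, (((lam e)⁻¹ : ℂˣ) : ℂ) = ∑ ψ : AddChar (Additive E) ℂ, ψ (Additive.ofMul e⁻¹) := by
    refine (Fintype.sum_equiv (dualEquiv (E := E)) _ _ fun ψ => ?_).symm
    rw [← map_inv]
    rfl
  rw [h2, h1]
  by_cases he : e = 1
  · subst he
    rw [if_pos rfl, if_pos (by rw [inv_one]; rfl), Fintype.card_congr (Additive.toMul (α := E))]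
  · rw [if_neg he, if_neg]
    intro h
    apply he
    rw [← inv_eq_one]
    exact h

end dual

variable {L : Type*} [Group L] {U : Type*} [AddCommGroup U] [Module ℂ U] [FiniteDimensional ℂ U]
  (ρ : Representation ℂ L U)

/-- the sum of the multiplicities is the dimension -/
theorem sum_wt {X : Subgroup L} [Finite X] (hE : ∀ a ∈ X, ∀ b ∈ X, a * b = b * a) [Fintype (X →* ℂˣ)] :
    ∑ lam : X →* ℂˣ, finrank ℂ (wt ρ X lam) = finrank ℂ U := by
  classical
  let _ : CommGroup X := { (inferInstance : Group X) with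
    mul_comm := fun a b => Subtype.ext (hE a a.2 b b.2) }
  have := Fintype.ofFinite X
  have h1 : (Fintype.card X : ℂ) * ∑ lam : X →* ℂˣ, (finrank ℂ (wt ρ X lam) : ℂ) =
      (Fintype.card X : ℂ) * finrank ℂ U := by
    rw [Finset.mul_sum]
    calc ∑ lam : X →* ℂˣ, (Fintype.card X : ℂ) * (finrank ℂ (wt ρ X lam) : ℂ)
        = ∑ lam : X →* ℂˣ, ∑ x : X, (((lam x)⁻¹ : ℂˣ) : ℂ) * LinearMap.trace ℂ U (ρ x) :=
          Finset.sum_congr rfl fun lam _ => (sum_trace_wt ρ X lam).symm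
      _ = ∑ x : X, (∑ lam : X →* ℂˣ, (((lam x)⁻¹ : ℂˣ) : ℂ)) * LinearMap.trace ℂ U (ρ x) := by
          rw [Finset.sum_comm]
          refine Finset.sum_congr rfl fun x _ => ?_
          rw [Finset.sum_mul]
      _ = ∑ x : X, (if x = 1 then (Fintype.card X : ℂ) else 0) * LinearMap.trace ℂ U (ρ x) :=
          Finset.sum_congr rfl fun x _ => by rw [sum_dual]
      _ = (Fintype.card X : ℂ) * finrank ℂ U := by
          rw [Finset.sum_eq_single (1 : X)]
          · rw [if_pos rfl, OneMemClass.coe_one, map_one, LinearMap.trace_one]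
          · intro x _ hx
            rw [if_neg hx, zero_mul]
          · intro h
            exact absurd (Finset.mem_univ _) h
  have h2 := mul_left_cancel₀ (card_ne X) h1
  exact_mod_cast h2

/-- **Weights.** -/
theorem finrank_add_le {X : Subgroup L} [Finite X] (hE : ∀ a ∈ X, ∀ b ∈ X, a * b = b * a)
    (hne : fx ρ X ≠ ⊤) {ℓ : ℕ}
    (hℓ : ∀ lam : X →* ℂˣ, lam ≠ 1 → ∃ F : Finset (X →* ℂˣ), ℓ ≤ F.card ∧ ∀ mu ∈ F,
      ∃ g ∈ normalizer (X : Set L), ∀ e (he : e ∈ X) (he' : g * e * g⁻¹ ∈ X),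
        mu ⟨e, he⟩ = lam ⟨g * e * g⁻¹, he'⟩) :
    finrank ℂ (fx ρ X) + ℓ ≤ finrank ℂ U := by
  classical
  have hfin : Finite (X →* ℂˣ) := by
    let _ : CommGroup X := { (inferInstance : Group X) with
      mul_comm := fun a b => Subtype.ext (hE a a.2 b b.2) }
    exact finite_dual (E := X)
  have := Fintype.ofFinite (X →* ℂˣ)
  have hsum := sum_wt ρ hE
  have hlt : finrank ℂ (fx ρ X) < finrank ℂ U := Submodule.finrank_lt hne
  obtain ⟨lam, hlam, hpos⟩ : ∃ lam : X →* ℂˣ, lam ≠ 1 ∧ 1 ≤ finrank ℂ (wt ρ X lam) := by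
    by_contra hcon
    push Not at hcon
    have h1 : ∑ lam : X →* ℂˣ, finrank ℂ (wt ρ X lam) = finrank ℂ (wt ρ X 1) := by
      refine Finset.sum_eq_single 1 (fun lam _ hl => ?_) (fun h => absurd (Finset.mem_univ _) h)
      have := hcon lam hl
      omega
    rw [wt_one] at h1
    omega
  obtain ⟨F, hF, hF2⟩ := hℓ lam hlam
  have h1F : (1 : X →* ℂˣ) ∉ F := by
    intro h1
    obtain ⟨g, hg, h2⟩ := hF2 1 h1
    apply hlam
    ext ⟨e, he⟩
    have h3 : g⁻¹ * e * g ∈ X := (mem_normalizer_iff''.1 hg e).1 he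
    have h4 : g * (g⁻¹ * e * g) * g⁻¹ = e := by group
    have h5 := h2 (g⁻¹ * e * g) h3 (by rw [h4]; exact he)
    have h6 : (⟨g * (g⁻¹ * e * g) * g⁻¹, by rw [h4]; exact he⟩ : X) = ⟨e, he⟩ := Subtype.ext h4
    rw [h6] at h5
    rw [← h5]
    rfl
  calc finrank ℂ (fx ρ X) + ℓ ≤ finrank ℂ (wt ρ X 1) + ∑ mu ∈ F, finrank ℂ (wt ρ X mu) := by
        rw [wt_one]
        refine Nat.add_le_add_left ?_ _
        calc ℓ ≤ F.card := hF
          _ = ∑ _mu ∈ F, 1 := by simp
          _ ≤ _ := Finset.sum_le_sum fun mu hmu => by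
            obtain ⟨g, hg, h2⟩ := hF2 mu hmu
            exact hpos.trans (finrank_wt_conj ρ hg h2)
    _ = ∑ mu ∈ insert 1 F, finrank ℂ (wt ρ X mu) := by rw [Finset.sum_insert h1F]
    _ ≤ ∑ mu : X →* ℂˣ, finrank ℂ (wt ρ X mu) :=
        Finset.sum_le_sum_of_subset (Finset.subset_univ _)
    _ = _ := hsum

end Cfsg.Agent.H963.QA
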