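import Cfsg.Agent.H963.QA.WM
import Cfsg.Agent.H389.QU.Num
import Cfsg.Agent.H306.QA.CrFin
import Cfsg.Agent.H759.QA.Chars
import Cfsg.Agent.H700.FpfPsu.Deg
import Cfsg.Agent.S0283

/-!
# S4979, layer (A), rows `PSU_5(4)` and `PSU_12(2)` (helper963)
-/

set_option autoImplicit false

open Cfsg

namespace Cfsg.Agent.H963.QA

open Cfsg.Agent.H152.QA Cfsg.Agent.H80.Fpf Cfsg.Agent.H700.FpfPsu

/-- CR with a lower bound for `p`: `|S| < p0 * A` , `(p0 + 1) ^ k` not `≤ A`, `A ^ k < q0 ^ B` -/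
theorem Sit.false_of_cr {p q : ℕ} {L V S : Type} [Group L] [Finite L] [AddCommGroup V] [Finite V] [DistribMulAction L V]
    [Group S] [Finite S] [IsSimpleGroup S] {π : L →* S} {N : Subgroup L} {φ : N →* ℂˣ}
    (h : Sit (V := V) p q N φ) (hπ : IsCover π) {B : ℕ} (hB : MinDeg S B) {p0 q0 A k : ℕ} (hp0 : p0 ≤ p)
    (hq0 : q0 ≤ q) (hS : Nat.card S ≤ p0 * A) (hk : A < (p0 + 1) ^ k) (hnum : A ^ k < q0 ^ B) (hpp : 0 < p0) : False := by
  obtain ⟨m, hm, hpm, hle⟩ := Cfsg.Agent.H306.QA.Sit.cr h hπ hB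
  have hp := h.hp
  have hpS : p ∣ Nat.card S := Cfsg.Agent.H306.QA.p_dvd h hπ
  set C := ordCompl[p] (Nat.card S) with hC
  have h1 : p0 * C ≤ Nat.card S := by
    have h1 : 1 ≤ (Nat.card S).factorization p := (hp.dvd_iff_one_le_factorization Nat.card_pos.ne').1 hpS
    have h2 : p ≤ ordProj[p] (Nat.card S) := by
      calc p = p ^ 1 := (pow_one p).symm
        _ ≤ _ := Nat.pow_le_pow_right hp.pos h1
    calc p0 * C ≤ ordProj[p] (Nat.card S) * C := Nat.mul_le_mul_right _ (hp0.trans h2)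
      _ = Nat.card S := Nat.ordProj_mul_ordCompl_eq_self _ p
  have h2 : C ≤ A := Nat.le_of_mul_le_mul_left (h1.trans hS) hpp
  have h3 : (p0 + 1) ^ (m - 1) < (p0 + 1) ^ k := by
    calc (p0 + 1) ^ (m - 1) ≤ (p + 1) ^ (m - 1) := Nat.pow_le_pow_left (by omega) _
      _ ≤ C := hpm
      _ ≤ A := h2
      _ < _ := hk
  have h4 : m - 1 < k := (Nat.pow_lt_pow_iff_right (by omega)).1 h3
  have hA : 0 < A := by
    rcases Nat.eq_zero_or_pos A with h0 | h0
    · rw [h0, mul_zero] at hS
      have : 0 < Nat.card S := Nat.card_pos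
      omega
    · exact h0
  have h5 : q ^ B ≤ A ^ k :=
    calc q ^ B ≤ C ^ m := hle
      _ ≤ A ^ m := Nat.pow_le_pow_left h2 _
      _ ≤ A ^ k := Nat.pow_le_pow_right hA (by omega)
  have h6 : q0 ^ B ≤ q ^ B := Nat.pow_le_pow_left hq0 _
  omega

theorem card_u54 {F : Type} [Field F] [Fintype F] (hF : Fintype.card F = 4 ^ 2) :
    Nat.card (PSU 5 F 4) = 53443952640000 := by
  have h1 := Cfsg.Agent.H389.QU.card_psu hF (n := 5) (by norm_num)
  have h2 : ∏ i ∈ Finset.range (5 - 1), Cfsg.Agent.H948.UProd.ph 4 (i + 1) = 15 * 65 * 255 * 1025 := by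
    decide
  rw [h2] at h1
  norm_num at h1
  omega

theorem row_u54 {F : Type} [Field F] [Fintype F] (hF : Fintype.card F = 4 ^ 2) : NoSit (PSU 5 F 4) := by
  classical
  intro p q L V _ _ _ _ _ π N φ hπ h
  have := Cfsg.Agent.S0283.result hF 5 (by norm_num) (by norm_num)
  have hcard := card_u54 hF
  have hmul : MultDvd (PSU 5 F 4) 5 := by
    have h1 := multDvd (n := 5) hF (by norm_num) (by norm_num) (by simp)
    have h2 : Nat.gcd 5 (4 + 1) = 5 := by norm_num
    rwa [h2] at h1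
  obtain ⟨r, hr, hrp, hr5⟩ := Cfsg.Agent.H759.QA.Sit.exists_prime_dvd h hπ hmul
  have hp5 : p ≠ 5 := by
    rintro rfl
    exact hrp ((Nat.prime_dvd_prime_iff_eq hr h.hp).1 hr5)
  have hpS : p ∣ Nat.card (PSU 5 F 4) := Cfsg.Agent.H306.QA.p_dvd h hπ
  have hqS : ¬ q ∣ Nat.card (PSU 5 F 4) := Cfsg.Agent.H306.QA.q_not_dvd h hπ
  rw [hcard] at hpS hqS
  have hq7 : 7 ≤ q := by
    by_contra hcon
    have h2 := h.hq.two_le
    have hq := h.hq
    interval_cases q <;> revert hq hqS <;> norm_num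
  have hB : MinDeg (PSU 5 F 4) 204 := by
    refine minDeg (n := 5) hF (by norm_num) (by norm_num) (by simp) fun d ρ hρ hd => ?_
    have h5 := Cfsg.Agent.S2334.result 5 4 (by norm_num) (by decide) hF (by simp) d ρ hρ hd
    norm_num at h5
    exact h5
  rcases Nat.lt_or_ge p 11 with hp11 | hp11
  · -- `p = 3`
    have hp3 : p = 3 := by
      have h2 := h.hp.two_le
      have hp := h.hp
      have hodd := h.odd
      interval_cases p <;> revert hp hpS hodd hp5 <;> norm_num
    subst hp3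
    obtain ⟨_, hP⟩ := h.exists_pSit_prime hπ (by norm_num) hmul
    have h1 := PSit.wm hF (by norm_num) hP (k := 2) (M := 51) le_rfl (by norm_num) (by norm_num) (by norm_num)
      (by norm_num) (by norm_num)
    rw [hcard] at h1
    have h2 : 7 ^ ((3 - 1) * (51 / 3)) ≤ q ^ ((3 - 1) * (51 / 3)) := Nat.pow_le_pow_left hq7 _
    have h3 := h2.trans h1
    norm_num at h3
  · exact Sit.false_of_cr h hπ hB (p0 := 11) (q0 := 7) (A := 4858541149091) (k := 12) hp11 hq7
      (by rw [hcard]; norm_num) (by norm_num) (by norm_num) (by norm_num)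

theorem card_u122 {F : Type} [Field F] [Fintype F] (hF : Fintype.card F = 2 ^ 2) :
    Nat.card (PSU 12 F 2) = 2999761491491658579472011849648637476864000 := by
  have h1 := Cfsg.Agent.H389.QU.card_psu hF (n := 12) (by norm_num)
  have h2 : ∏ i ∈ Finset.range (12 - 1), Cfsg.Agent.H948.UProd.ph 2 (i + 1) =
      3 * 9 * 15 * 33 * 63 * 129 * 255 * 513 * 1023 * 2049 * 4095 := by
    decide
  rw [h2] at h1
  norm_num at h1
  omega

set_option exponentiation.threshold 5000 in
theorem row_u122 {F : Type} [Field F] [Fintype F] (hF : Fintype.card F = 2 ^ 2) : NoSit (PSU 12 F 2) := by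
  classical
  intro p q L V _ _ _ _ _ π N φ hπ h
  have := Cfsg.Agent.S0283.result hF 12 (by norm_num) (by norm_num)
  have hcard := card_u122 hF
  have hmul : MultDvd (PSU 12 F 2) 3 := by
    have h1 := multDvd (n := 12) hF (by norm_num) (by norm_num) (by simp)
    have h2 : Nat.gcd 12 (2 + 1) = 3 := by norm_num
    rwa [h2] at h1
  obtain ⟨r, hr, hrp, hr5⟩ := Cfsg.Agent.H759.QA.Sit.exists_prime_dvd h hπ hmul
  have hp3 : p ≠ 3 := by
    rintro rfl
    exact hrp ((Nat.prime_dvd_prime_iff_eq hr h.hp).1 hr5)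
  have hqS : ¬ q ∣ Nat.card (PSU 12 F 2) := Cfsg.Agent.H306.QA.q_not_dvd h hπ
  rw [hcard] at hqS
  have hq23 : 23 ≤ q := by
    by_contra hcon
    have h2 := h.hq.two_le
    have hq := h.hq
    interval_cases q <;> revert hq hqS <;> norm_num
  have hB : MinDeg (PSU 12 F 2) 1365 := by
    refine minDeg (n := 12) hF (by norm_num) (by norm_num) (by simp) fun d ρ hρ hd => ?_
    have h5 := Cfsg.Agent.S2335.result 12 2 (by norm_num) (by decide) hF (by simp) d ρ hρ hd
    norm_num at h5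
    exact h5
  rcases Nat.lt_or_ge p 11 with hp11 | hp11
  · -- `p = 5, 7`
    have hp57 : p = 5 ∨ p = 7 := by
      have h2 := h.hp.two_le
      have hp := h.hp
      have hodd := h.odd
      interval_cases p <;> revert hp hodd hp3 <;> norm_num
    obtain ⟨_, hP⟩ := h.exists_pSit_prime hπ (by norm_num) hmul
    rcases hp57 with rfl | rfl
    · have h1 := PSit.wm hF (by norm_num) hP (k := 6) (M := 455) (by norm_num) (by norm_num) (by norm_num)
        (by norm_num) (by norm_num) (by norm_num)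
      rw [hcard] at h1
      have h2 : 23 ^ ((5 - 1) * (455 / 5)) ≤ q ^ ((5 - 1) * (455 / 5)) := Nat.pow_le_pow_left hq23 _
      have h3 := h2.trans h1
      norm_num at h3
    · have h1 := PSit.wm hF (by norm_num) hP (k := 6) (M := 455) (by norm_num) (by norm_num) (by norm_num)
        (by norm_num) (by norm_num) (by norm_num)
      rw [hcard] at h1
      have h2 : 23 ^ ((7 - 1) * (455 / 7)) ≤ q ^ ((7 - 1) * (455 / 7)) := Nat.pow_le_pow_left hq23 _
      have h3 := h2.trans h1
      norm_num at h3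
  · exact Sit.false_of_cr h hπ hB (p0 := 11) (q0 := 23) (A := 272705590135605325406546531786239770624000) (k := 39) hp11 hq23
      (by rw [hcard]) (by norm_num) (by norm_num) (by norm_num)

end Cfsg.Agent.H963.QA
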