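import Cfsg.Agent.H152.QA.PSit
import Cfsg.Agent.H963.QA.Moved
import Cfsg.Agent.H963.QA.Crit
import Cfsg.Agent.H245.QA.Idem
import Cfsg.Agent.H245.QA.Fix

/-!
# S4979, layer (A), tools [A-T4], version 2 (helper963): `PSit.weights`, `PSit.weights_moved`, `PSit.frob`
-/

set_option autoImplicit false
set_option linter.unusedSectionVars false

open Cfsg

namespace Cfsg.Agent.H963.QA

open Cfsg.Agent.H152.QA Cfsg.Agent.H80.Fpf

variable {p q : ℕ} {G V : Type} [Group G] [Finite G] [AddCommGroup V] [Finite V] [DistribMulAction G V]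

theorem PSit.hasRep (h : PSit p q G V) : HasRep q G V := by
  have := Fact.mk h.hq
  exact Cfsg.Agent.H245.QA.exists_rep_fix h.exp h.qG

theorem isPGroup_zpowers {p : ℕ} (hp : p.Prime) {L : Type} [Group L] {x : L} (hx : orderOf x = p) :
    IsPGroup p (Subgroup.zpowers x) := by
  have := Fact.mk hp
  refine IsPGroup.of_card (n := 1) ?_
  rw [Nat.card_zpowers, hx, pow_one]

theorem PSit.card_le' (h : PSit p q G V) {x : G} (hx : orderOf x = p) :
    Nat.card V ≤ (Subgroup.normalizer ((Subgroup.zpowers x : Subgroup G) : Set G)).index *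
      Nat.card (fixV G V (Subgroup.zpowers x)) :=
  Cfsg.Agent.H245.QA.card_le h.hp h.P1 _ (isPGroup_zpowers h.hp hx)

theorem PSit.fx_ne_top (h : PSit p q G V) {E : Subgroup G} (hE1 : E ≠ ⊥) {d : ℕ} {ρ : Representation ℂ G (Fin d → ℂ)}
    (hd : Nat.card V = q ^ d) (hfx : ∀ X : Subgroup G, Nat.card (fixV G V X) = q ^ Module.finrank ℂ (fx ρ X)) :
    fx ρ E ≠ ⊤ := by
  intro htop
  apply hE1
  rw [Subgroup.eq_bot_iff_forall]
  intro e he
  apply h.faith
  intro v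
  have h1 : Nat.card (fixV G V E) = Nat.card V := by
    rw [hfx E, htop, hd, finrank_top, Module.finrank_fin_fun]
  have h2 : fixV G V E = ⊤ := AddSubgroup.eq_top_of_card_eq _ h1
  have h3 : v ∈ fixV G V E := by rw [h2]; trivial
  exact h3 e he

/-- weights: all orbits of `N_G(E)` on the non-trivial linear characters of the abelian subgroup `E` have length `≥ ℓ` -/
theorem PSit.weights (h : PSit p q G V) (E : Subgroup G) (hE : ∀ a ∈ E, ∀ b ∈ E, a * b = b * a)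
    (hE1 : E ≠ ⊥) {ℓ : ℕ}
    (hℓ : ∀ lam : E →* ℂˣ, lam ≠ 1 → ∃ F : Finset (E →* ℂˣ), ℓ ≤ F.card ∧ ∀ mu ∈ F,
      ∃ g ∈ Subgroup.normalizer (E : Set G), ∀ e (he : e ∈ E) (he' : g * e * g⁻¹ ∈ E), mu ⟨e, he⟩ = lam ⟨g * e * g⁻¹, he'⟩) :
    q ^ ℓ * Nat.card (fixV G V E) ≤ Nat.card V := by
  obtain ⟨d, ρ, hd, hfx⟩ := PSit.hasRep h
  have h1 := finrank_add_le ρ hE (PSit.fx_ne_top h hE1 hd hfx) hℓ
  rw [hfx E, hd, ← pow_add]
  refine Nat.pow_le_pow_right h.hq.pos ?_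
  rw [Module.finrank_fin_fun] at h1
  omega

/-- a non-trivial weight of positive multiplicity -/
theorem exists_weight {L : Type*} [Group L] {U : Type*} [AddCommGroup U] [Module ℂ U] [FiniteDimensional ℂ U]
    (ρ : Representation ℂ L U) {X : Subgroup L} [Finite X] (hE : ∀ a ∈ X, ∀ b ∈ X, a * b = b * a)
    (hne : fx ρ X ≠ ⊤) : ∃ lam : X →* ℂˣ, lam ≠ 1 ∧ 1 ≤ Module.finrank ℂ (wt ρ X lam) := by
  classical
  have hfin : Finite (X →* ℂˣ) := by
    let _ : CommGroup X := { (inferInstance : Group X) with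
      mul_comm := fun a b => Subtype.ext (hE a a.2 b b.2) }
    exact finite_dual (E := X)
  have := Fintype.ofFinite (X →* ℂˣ)
  have hsum := sum_wt ρ hE
  have hlt : Module.finrank ℂ (fx ρ X) < Module.finrank ℂ U := Submodule.finrank_lt hne
  by_contra hcon
  push Not at hcon
  have h1 : ∑ lam : X →* ℂˣ, Module.finrank ℂ (wt ρ X lam) = Module.finrank ℂ (wt ρ X 1) := by
    refine Finset.sum_eq_single 1 (fun lam _ hl => ?_) (fun h => absurd (Finset.mem_univ _) h)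
    have := hcon lam hl
    omega
  rw [wt_one] at h1
  omega

/-- moved weights: `x` of order `p` normalises the abelian subgroup `E`; for every `lam ≠ 1` at least `p t - (p - 1)` members
of the `N_G(E)`-orbit of `lam` are moved by `x`. -/
theorem PSit.weights_moved (h : PSit p q G V) (E : Subgroup G) (hE : ∀ a ∈ E, ∀ b ∈ E, a * b = b * a)
    (hE1 : E ≠ ⊥) (x : G) (hx : orderOf x = p) (hxE : x ∈ Subgroup.normalizer (E : Set G)) {t : ℕ}
    (ht : ∀ lam : E →* ℂˣ, lam ≠ 1 → ∃ F : Finset (E →* ℂˣ), p * t ≤ F.card + (p - 1) ∧ ∀ mu ∈ F,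
      (∃ g ∈ Subgroup.normalizer (E : Set G), ∀ e (he : e ∈ E) (he' : g * e * g⁻¹ ∈ E),
        mu ⟨e, he⟩ = lam ⟨g * e * g⁻¹, he'⟩) ∧
      ∃ e, ∃ (he : e ∈ E) (he' : x * e * x⁻¹ ∈ E), mu ⟨x * e * x⁻¹, he'⟩ ≠ mu ⟨e, he⟩) :
    q ^ ((p - 1) * t) ≤ (Subgroup.normalizer ((Subgroup.zpowers x : Subgroup G) : Set G)).index := by
  obtain ⟨d, ρ, hd, hfx⟩ := PSit.hasRep h
  obtain ⟨lam, hlam, hpos⟩ := exists_weight ρ hE (PSit.fx_ne_top h hE1 hd hfx)
  obtain ⟨F, hF, hF2⟩ := ht lam hlam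
  have h1 := moved_le ρ hE h.hp hx hxE F hF
    (fun mu hmu => by
      obtain ⟨g, hg, h2⟩ := (hF2 mu hmu).1
      exact hpos.trans (finrank_wt_conj ρ hg h2))
    (fun mu hmu hs => by
      obtain ⟨e, he, he', h2⟩ := (hF2 mu hmu).2
      obtain ⟨hxN, h3⟩ := mem_stabW.1 hs
      exact h2 (h3 ⟨e, he⟩))
  rw [Module.finrank_fin_fun] at h1
  have hcard := PSit.card_le' h hx
  rw [hfx, hd] at hcard
  set I := (Subgroup.normalizer ((Subgroup.zpowers x : Subgroup G) : Set G)).index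
  set a := Module.finrank ℂ (fx ρ (Subgroup.zpowers x))
  have h2 : q ^ ((p - 1) * t) * q ^ a ≤ I * q ^ a := by
    rw [← pow_add]
    exact (Nat.pow_le_pow_right h.hq.pos (by omega)).trans hcard
  exact Nat.le_of_mul_le_mul_right h2 (pow_pos h.hq.pos _)

/-- **Frobenius criterion**: `x` of order `p` normalises the abelian subgroup `E`, `C_E(x) = 1`. -/
theorem PSit.frob (h : PSit p q G V) (E : Subgroup G) (_hE : ∀ a ∈ E, ∀ b ∈ E, a * b = b * a) (x : G)
    (hx : orderOf x = p) (hxE : x ∈ Subgroup.normalizer (E : Set G)) (hC : ∀ e ∈ E, x * e = e * x → e = 1) :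
    Nat.card V ^ (p - 1) ≤ Nat.card (fixV G V E) ^ (p - 1) *
      (Subgroup.normalizer ((Subgroup.zpowers x : Subgroup G) : Set G)).index ^ p := by
  obtain ⟨d, ρ, hd, hfx⟩ := PSit.hasRep h
  have hcard := PSit.card_le' h hx
  have h1 := frob_le ρ h.hp hx hxE hC
  rw [Module.finrank_fin_fun] at h1
  rw [hfx, hd] at hcard
  rw [hfx E, hd]
  set I := (Subgroup.normalizer ((Subgroup.zpowers x : Subgroup G) : Set G)).index
  set a := Module.finrank ℂ (fx ρ (Subgroup.zpowers x))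
  set c := Module.finrank ℂ (fx ρ E)
  obtain ⟨r, rfl⟩ : ∃ r, p = r + 1 := ⟨p - 1, by have := h.hp.pos; omega⟩
  rw [Nat.add_sub_cancel] at h1 ⊢
  have h2 : (q ^ d) ^ (r + 1) ≤ (I * q ^ a) ^ (r + 1) := Nat.pow_le_pow_left hcard _
  rw [mul_pow, ← pow_mul q a] at h2
  have h3 : q ^ (a * (r + 1)) ≤ q ^ (d + r * c) := Nat.pow_le_pow_right h.hq.pos (by rw [mul_comm]; exact h1)
  have h4 : (q ^ d) ^ (r + 1) ≤ I ^ (r + 1) * q ^ (d + r * c) := h2.trans (Nat.mul_le_mul_left _ h3)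
  have h5 : (q ^ d) ^ r * q ^ d ≤ ((q ^ c) ^ r * I ^ (r + 1)) * q ^ d := by
    calc (q ^ d) ^ r * q ^ d = (q ^ d) ^ (r + 1) := (pow_succ _ _).symm
      _ ≤ I ^ (r + 1) * q ^ (d + r * c) := h4
      _ = ((q ^ c) ^ r * I ^ (r + 1)) * q ^ d := by rw [pow_add q d, mul_comm r c, pow_mul q c r]; ring
  exact Nat.le_of_mul_le_mul_right h5 (pow_pos h.hq.pos _)

end Cfsg.Agent.H963.QA
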