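import Mathlib

/-!
# Weight spaces and fixed spaces of finite groups of operators over `ℂ`, by traces

`ρ : Representation ℂ L U`, `X` a finite subgroup of `L`, `lam : X →* ℂˣ`:

* `wt ρ X lam` : the weight space; `fx ρ X` : the fixed space;
* `sum_trace_wt` : `∑ lam(x)⁻¹ tr ρ(x) = |X| dim wt`;
* `finrank_wt_conj` : conjugate weights have the same multiplicity;
* `sum_wt` : for `X` abelian the dimension is the sum of the multiplicities;
* `finrank_add_le` : `dim C(X) + ℓ ≤ dim U`;
* `frob_le` : `p dim C(x) ≤ dim U + (p - 1) dim C(E)`.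
-/

set_option autoImplicit false
set_option linter.unusedSectionVars false

namespace Cfsg.Agent.H963.QA

open Module Subgroup

variable {L : Type*} [Group L] {U : Type*} [AddCommGroup U] [Module ℂ U] [FiniteDimensional ℂ U]
  (ρ : Representation ℂ L U)

/-- the weight space -/
def wt (X : Subgroup L) (lam : X →* ℂˣ) : Submodule ℂ U where
  carrier := {v | ∀ x : X, ρ x v = ((lam x : ℂˣ) : ℂ) • v}
  add_mem' := fun ha hb x => by rw [map_add, ha x, hb x, smul_add]
  zero_mem' := fun x => by rw [map_zero, smul_zero]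
  smul_mem' := fun c v hv x => by rw [map_smul, hv x, smul_comm]

/-- the fixed space -/
def fx (X : Subgroup L) : Submodule ℂ U where
  carrier := {v | ∀ g ∈ X, ρ g v = v}
  add_mem' := fun ha hb g hg => by rw [map_add, ha g hg, hb g hg]
  zero_mem' := fun g _ => map_zero (ρ g)
  smul_mem' := fun c v hv g hg => by rw [map_smul, hv g hg]

theorem mem_wt {X : Subgroup L} {lam : X →* ℂˣ} {v : U} :
    v ∈ wt ρ X lam ↔ ∀ x : X, ρ x v = ((lam x : ℂˣ) : ℂ) • v := Iff.rfl

theorem mem_fx {X : Subgroup L} {v : U} : v ∈ fx ρ X ↔ ∀ g ∈ X, ρ g v = v := Iff.rfl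

theorem wt_one (X : Subgroup L) : wt ρ X 1 = fx ρ X := by
  ext v
  rw [mem_wt, mem_fx]
  constructor
  · intro h g hg
    have := h ⟨g, hg⟩
    simpa using this
  · intro h x
    simpa using h x x.2

section trace

variable (X : Subgroup L) [Fintype X] (lam : X →* ℂˣ)

/-- the projection onto the weight space -/
noncomputable def pr : U →ₗ[ℂ] U :=
  ((Fintype.card X : ℂ)⁻¹) • ∑ x : X, (((lam x)⁻¹ : ℂˣ) : ℂ) • ρ x

theorem card_ne : (Fintype.card X : ℂ) ≠ 0 := by
  have := Fintype.card_ne_zero (α := X)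
  exact_mod_cast this

theorem pr_apply (v : U) : pr ρ X lam v =
    ((Fintype.card X : ℂ)⁻¹) • ∑ x : X, (((lam x)⁻¹ : ℂˣ) : ℂ) • ρ x v := by
  simp [pr, LinearMap.sum_apply]

theorem isProj_pr : LinearMap.IsProj (wt ρ X lam) (pr ρ X lam) where
  map_mem v := by
    rw [mem_wt]
    intro y
    rw [pr_apply, map_smul, map_sum, smul_comm ((lam y : ℂˣ) : ℂ)]
    congr 1
    rw [Finset.smul_sum]
    refine Fintype.sum_equiv (Equiv.mulLeft y) _ _ fun x => ?_
    rw [map_smul, Equiv.coe_mulLeft, Subgroup.coe_mul, map_mul, map_mul, Module.End.mul_apply, smul_smul,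
      mul_inv, Units.val_mul, ← mul_assoc, Units.mul_inv, one_mul]
  map_id v hv := by
    rw [pr_apply]
    have h1 : ∀ x ∈ (Finset.univ : Finset X), (((lam x)⁻¹ : ℂˣ) : ℂ) • ρ x v = v := by
      intro x _
      rw [hv x, smul_smul, Units.inv_mul, one_smul]
    rw [Finset.sum_congr rfl h1, Finset.sum_const, Finset.card_univ, ← Nat.cast_smul_eq_nsmul ℂ, smul_smul,
      inv_mul_cancel₀ (card_ne X), one_smul]

/-- **The multiplicity of a weight.** -/
theorem sum_trace_wt : ∑ x : X, (((lam x)⁻¹ : ℂˣ) : ℂ) * LinearMap.trace ℂ U (ρ x) =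
    (Fintype.card X : ℂ) * finrank ℂ (wt ρ X lam) := by
  have h1 := (isProj_pr ρ X lam).trace
  rw [pr, map_smul, map_sum] at h1
  rw [← h1, smul_eq_mul, ← mul_assoc, mul_inv_cancel₀ (card_ne X), one_mul]
  refine Finset.sum_congr rfl fun x _ => ?_
  rw [map_smul, smul_eq_mul]

theorem sum_trace_fx : ∑ x : X, LinearMap.trace ℂ U (ρ x) = (Fintype.card X : ℂ) * finrank ℂ (fx ρ X) := by
  rw [← wt_one, ← sum_trace_wt]
  refine Finset.sum_congr rfl fun x _ => ?_
  simp

end trace

/-- conjugate weights have the same multiplicity -/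
theorem finrank_wt_conj {X : Subgroup L} {lam mu : X →* ℂˣ} {g : L}
    (hg : g ∈ normalizer (X : Set L))
    (h : ∀ e (he : e ∈ X) (he' : g * e * g⁻¹ ∈ X), mu ⟨e, he⟩ = lam ⟨g * e * g⁻¹, he'⟩) :
    finrank ℂ (wt ρ X lam) ≤ finrank ℂ (wt ρ X mu) := by
  have h1 : (wt ρ X lam).map (ρ g⁻¹) ≤ wt ρ X mu := by
    rintro _ ⟨v, hv, rfl⟩
    rw [mem_wt]
    rintro ⟨e, he⟩
    have he' : g * e * g⁻¹ ∈ X := (mem_normalizer_iff.1 hg e).1 he
    have h2 := hv ⟨g * e * g⁻¹, he'⟩
    rw [h e he he']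
    show ρ e (ρ g⁻¹ v) = _ • ρ g⁻¹ v
    rw [← map_smul, ← h2, ← Module.End.mul_apply, ← map_mul, ← Module.End.mul_apply, ← map_mul]
    congr 2
    group
  have h2 : Function.Injective (ρ g⁻¹) := by
    intro a b hab
    have h3 := congrArg (ρ g) hab
    rwa [← Module.End.mul_apply, ← map_mul, ← Module.End.mul_apply, ← map_mul, mul_inv_cancel, map_one,
      Module.End.one_apply, Module.End.one_apply] at h3
  calc finrank ℂ (wt ρ X lam) = finrank ℂ ((wt ρ X lam).map (ρ g⁻¹)) :=
        (Submodule.equivMapOfInjective _ h2 _).finrank_eq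
    _ ≤ _ := Submodule.finrank_mono h1

section dual

variable {E : Type*} [CommGroup E] [Finite E]

/-- linear characters and additive characters -/
noncomputable def dualEquiv : AddChar (Additive E) ℂ ≃ (E →* ℂˣ) :=
  (AddChar.toMonoidHomEquiv (A := Additive E) (M := ℂ)).trans
    { toFun := fun f => (f.comp (MulEquiv.refl E).toMonoidHom : Multiplicative (Additive E) →* ℂ).toHomUnits
      invFun := fun f => (Units.coeHom ℂ).comp f
      left_inv := fun f => by ext x; rfl
      right_inv := fun f => by ext x; rfl }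

end dual

end Cfsg.Agent.H963.QA
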